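import Cfsg.Agent.Lib.McLUnique.Cert.Side1.Part0
import Cfsg.Agent.Lib.McLUnique.Cert.Side1.Part1
import Cfsg.Agent.Lib.McLUnique.Cert.Side1.Part2
import Cfsg.Agent.Lib.McLUnique.Cert.Side1.Part3
import Cfsg.Agent.Lib.McLUnique.Cert.Side1.Part4
import Cfsg.Agent.Lib.McLUnique.Cert.Side1.Part5

/-! Generated: the words fix the base point. -/
set_option autoImplicit false
set_option maxRecDepth 100000
set_option Elab.async false

namespace CfsgLib.McLUnique.Cert.Side1

open CfsgLib.Presented

theorem facts_ok : enum.OKOn 0 31153 :=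
  (((((part0).append part1).append part2).append part3).append part4).append part5

theorem loop0 {G : Type*} [Group G] {X : Type*} [MulAction G X] {ev : ℕ → G} {base : X}
    (hI : enum.Interp ev base) : evW ev [0, 5, 6, 4, 1, 2] • base = base := by
  obtain ⟨s', hs⟩ := Option.isSome_iff_exists.1
    (show (enum.chkPath 31153 0 0 0x130098f0028e300a3900281400002800006 [2, 1, 4, 6, 5, 0]).isSome = true by decide +kernel)
  simpa using Enum.loop enum_valid hI facts_ok hs

theorem loop1 {G : Type*} [Group G] {X : Type*} [MulAction G X] {ev : ℕ → G} {base : X}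
    (hI : enum.Interp ev base) : evW ev [0, 5, 7, 4, 1, 3] • base = base := by
  obtain ⟨s', hs⟩ := Option.isSome_iff_exists.1
    (show (enum.chkPath 31153 0 0 0x5009d7002ad100ab500281400002800006 [3, 1, 4, 7, 5, 0]).isSome = true by decide +kernel)
  simpa using Enum.loop enum_valid hI facts_ok hs

theorem loop2 {G : Type*} [Group G] {X : Type*} [MulAction G X] {ev : ℕ → G} {base : X}
    (hI : enum.Interp ev base) : evW ev [0, 4, 4, 6, 4, 1, 2] • base = base := by
  obtain ⟨s', hs⟩ := Option.isSome_iff_exists.1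
    (show (enum.chkPath 31153 0 0 0x4c0263c00a38c028e40011ec027ae00002800007 [2, 1, 4, 6, 4, 4, 0]).isSome = true by decide +kernel)
  simpa using Enum.loop enum_valid hI facts_ok hs

theorem loop3 {G : Type*} [Group G] {X : Type*} [MulAction G X] {ev : ℕ → G} {base : X}
    (hI : enum.Interp ev base) : evW ev [0, 4, 4, 7, 4, 1, 3] • base = base := by
  obtain ⟨s', hs⟩ := Option.isSome_iff_exists.1
    (show (enum.chkPath 31153 0 0 0x140275c00ab4402ad40011ec027ae00002800007 [3, 1, 4, 7, 4, 4, 0]).isSome = true by decide +kernel)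
  simpa using Enum.loop enum_valid hI facts_ok hs

theorem loop4 {G : Type*} [Group G] {X : Type*} [MulAction G X] {ev : ℕ → G} {base : X}
    (hI : enum.Interp ev base) : evW ev [0, 4, 7, 5, 7, 1, 2] • base = base := by
  obtain ⟨s', hs⟩ := Option.isSome_iff_exists.1
    (show (enum.chkPath 31153 0 0 0x4c0263c000024027af009ec4027ae00002800007 [2, 1, 7, 5, 7, 4, 0]).isSome = true by decide +kernel)
  simpa using Enum.loop enum_valid hI facts_ok hs

theorem loop5 {G : Type*} [Group G] {X : Type*} [MulAction G X] {ev : ℕ → G} {base : X}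
    (hI : enum.Interp ev base) : evW ev [0, 5, 6, 4, 3, 9, 6] • base = base := by
  obtain ⟨s', hs⟩ := Option.isSome_iff_exists.1
    (show (enum.chkPath 31153 0 0 0x828401e1c009d38028e300a3900281400002800007 [6, 9, 3, 4, 6, 5, 0]).isSome = true by decide +kernel)
  simpa using Enum.loop enum_valid hI facts_ok hs

theorem loop6 {G : Type*} [Group G] {X : Type*} [MulAction G X] {ev : ℕ → G} {base : X}
    (hI : enum.Interp ev base) : evW ev [0, 5, 6, 5, 5, 1, 2] • base = base := by
  obtain ⟨s', hs⟩ := Option.isSome_iff_exists.1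
    (show (enum.chkPath 31153 0 0 0x4c0263c009f94028e100a3900281400002800007 [2, 1, 5, 5, 6, 5, 0]).isSome = true by decide +kernel)
  simpa using Enum.loop enum_valid hI facts_ok hs

theorem loop7 {G : Type*} [Group G] {X : Type*} [MulAction G X] {ev : ℕ → G} {base : X}
    (hI : enum.Interp ev base) : evW ev [0, 5, 7, 5, 5, 1, 3] • base = base := by
  obtain ⟨s', hs⟩ := Option.isSome_iff_exists.1
    (show (enum.chkPath 31153 0 0 0x140275c00aad40049300ab500281400002800007 [3, 1, 5, 5, 7, 5, 0]).isSome = true by decide +kernel)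
  simpa using Enum.loop enum_valid hI facts_ok hs

theorem loop8 {G : Type*} [Group G] {X : Type*} [MulAction G X] {ev : ℕ → G} {base : X}
    (hI : enum.Interp ev base) : evW ev [0, 6, 4, 6, 5, 1, 3] • base = base := by
  obtain ⟨s', hs⟩ := Option.isSome_iff_exists.1
    (show (enum.chkPath 31153 0 0 0x140275c00aad402ab6008df80000c00002800007 [3, 1, 5, 6, 4, 6, 0]).isSome = true by decide +kernel)
  simpa using Enum.loop enum_valid hI facts_ok hs

theorem loop9 {G : Type*} [Group G] {X : Type*} [MulAction G X] {ev : ℕ → G} {base : X}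
    (hI : enum.Interp ev base) : evW ev [0, 11, 3, 8, 5, 6, 4] • base = base := by
  obtain ⟨s', hs⟩ := Option.isSome_iff_exists.1
    (show (enum.chkPath 31153 0 0 0x10dc0045500abe8021d8009c04025b300002800007 [4, 6, 5, 8, 3, 11, 0]).isSome = true by decide +kernel)
  simpa using Enum.loop enum_valid hI facts_ok hs

theorem loop10 {G : Type*} [Group G] {X : Type*} [MulAction G X] {ev : ℕ → G} {base : X}
    (hI : enum.Interp ev base) : evW ev [1, 5, 7, 4, 9, 2, 10] • base = base := by
  obtain ⟨s', hs⟩ := Option.isSome_iff_exists.1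
    (show (enum.chkPath 31153 0 0 0x9b2002437000134028d500abc8028a200009800007 [10, 2, 9, 4, 7, 5, 1]).isSome = true by decide +kernel)
  simpa using Enum.loop enum_valid hI facts_ok hs

theorem loop11 {G : Type*} [Group G] {X : Type*} [MulAction G X] {ev : ℕ → G} {base : X}
    (hI : enum.Interp ev base) : evW ev [1, 7, 8, 2, 5, 7, 4] • base = base := by
  obtain ⟨s', hs⟩ := Option.isSome_iff_exists.1
    (show (enum.chkPath 31153 0 0 0x10dc004e300ac8801d9d0079dc0220400009800007 [4, 7, 5, 2, 8, 7, 1]).isSome = true by decide +kernel)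
  simpa using Enum.loop enum_valid hI facts_ok hs

theorem loop12 {G : Type*} [Group G] {X : Type*} [MulAction G X] {ev : ℕ → G} {base : X}
    (hI : enum.Interp ev base) : evW ev [0, 0, 4, 9, 5, 1, 9, 2] • base = base := by
  obtain ⟨s', hs⟩ := Option.isSome_iff_exists.1
    (show (enum.chkPath 31153 0 0 0x13007870000060090a40046e0099f00004600002800008 [2, 9, 1, 5, 9, 4, 0, 0]).isSome = true by decide +kernel)
  simpa using Enum.loop enum_valid hI facts_ok hs

theorem loop13 {G : Type*} [Group G] {X : Type*} [MulAction G X] {ev : ℕ → G} {base : X}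
    (hI : enum.Interp ev base) : evW ev [0, 0, 4, 10, 7, 5, 0, 8] • base = base := by
  obtain ⟨s', hs⟩ := Option.isSome_iff_exists.1
    (show (enum.chkPath 31153 0 0 0x2753009bf40297100a88002ac50099f00004600002800008 [8, 0, 5, 7, 10, 4, 0, 0]).isSome = true by decide +kernel)
  simpa using Enum.loop enum_valid hI facts_ok hs

theorem loop14 {G : Type*} [Group G] {X : Type*} [MulAction G X] {ev : ℕ → G} {base : X}
    (hI : enum.Interp ev base) : evW ev [0, 0, 7, 0, 5, 10, 4, 2] • base = base := by
  obtain ⟨s', hs⟩ := Option.isSome_iff_exists.1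
    (show (enum.chkPath 31153 0 0 0x1300a6e4029c500a47001e6b00992c0004600002800008 [2, 4, 10, 5, 0, 7, 0, 0]).isSome = true by decide +kernel)
  simpa using Enum.loop enum_valid hI facts_ok hs

theorem loop15 {G : Type*} [Group G] {X : Type*} [MulAction G X] {ev : ℕ → G} {base : X}
    (hI : enum.Interp ev base) : evW ev [0, 0, 7, 4, 10, 5, 0, 8] • base = base := by
  obtain ⟨s', hs⟩ := Option.isSome_iff_exists.1
    (show (enum.chkPath 31153 0 0 0x2753009bf40297100a5d801da800992c0004600002800008 [8, 0, 5, 10, 4, 7, 0, 0]).isSome = true by decide +kernel)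
  simpa using Enum.loop enum_valid hI facts_ok hs

theorem loop16 {G : Type*} [Group G] {X : Type*} [MulAction G X] {ev : ℕ → G} {base : X}
    (hI : enum.Interp ev base) : evW ev [0, 0, 7, 5, 10, 4, 0, 9] • base = base := by
  obtain ⟨s', hs⟩ := Option.isSome_iff_exists.1
    (show (enum.chkPath 31153 0 0 0x254e00001c028e30012140048600992c0004600002800008 [9, 0, 4, 10, 5, 7, 0, 0]).isSome = true by decide +kernel)
  simpa using Enum.loop enum_valid hI facts_ok hs

theorem loop17 {G : Type*} [Group G] {X : Type*} [MulAction G X] {ev : ℕ → G} {base : X}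
    (hI : enum.Interp ev base) : evW ev [0, 0, 8, 2, 4, 7, 5, 9] • base = base := by
  obtain ⟨s', hs⟩ := Option.isSome_iff_exists.1
    (show (enum.chkPath 31153 0 0 0x254e0090a4028fb00a3e002700007b080004600002800008 [9, 5, 7, 4, 2, 8, 0, 0]).isSome = true by decide +kernel)
  simpa using Enum.loop enum_valid hI facts_ok hs

theorem loop18 {G : Type*} [Group G] {X : Type*} [MulAction G X] {ev : ℕ → G} {base : X}
    (hI : enum.Interp ev base) : evW ev [0, 0, 8, 2, 4, 9, 10, 5] • base = base := by
  obtain ⟨s', hs⟩ := Option.isSome_iff_exists.1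
    (show (enum.chkPath 31153 0 0 0x43b00a2240294000a3e002700007b080004600002800008 [5, 10, 9, 4, 2, 8, 0, 0]).isSome = true by decide +kernel)
  simpa using Enum.loop enum_valid hI facts_ok hs

theorem loop19 {G : Type*} [Group G] {X : Type*} [MulAction G X] {ev : ℕ → G} {base : X}
    (hI : enum.Interp ev base) : evW ev [0, 0, 9, 2, 4, 7, 5, 8] • base = base := by
  obtain ⟨s', hs⟩ := Option.isSome_iff_exists.1
    (show (enum.chkPath 31153 0 0 0x2753008dfc02ab700aad0027050087040004600002800008 [8, 5, 7, 4, 2, 9, 0, 0]).isSome = true by decide +kernel)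
  simpa using Enum.loop enum_valid hI facts_ok hs

theorem loop20 {G : Type*} [Group G] {X : Type*} [MulAction G X] {ev : ℕ → G} {base : X}
    (hI : enum.Interp ev base) : evW ev [0, 0, 9, 2, 4, 8, 5, 10] • base = base := by
  obtain ⟨s', hs⟩ := Option.isSome_iff_exists.1
    (show (enum.chkPath 31153 0 0 0x26c80076a402abb00aad0027050087040004600002800008 [10, 5, 8, 4, 2, 9, 0, 0]).isSome = true by decide +kernel)
  simpa using Enum.loop enum_valid hI facts_ok hs

theorem loop21 {G : Type*} [Group G] {X : Type*} [MulAction G X] {ev : ℕ → G} {base : X}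
    (hI : enum.Interp ev base) : evW ev [0, 2, 1, 3, 5, 8, 11, 4] • base = base := by
  obtain ⟨s', hs⟩ := Option.isSome_iff_exists.1
    (show (enum.chkPath 31153 0 0 0x43700122402a6000a050026b7009bbc026b600002800008 [4, 11, 8, 5, 3, 1, 2, 0]).isSome = true by decide +kernel)
  simpa using Enum.loop enum_valid hI facts_ok hs

theorem loop22 {G : Type*} [Group G] {X : Type*} [MulAction G X] {ev : ℕ → G} {base : X}
    (hI : enum.Interp ev base) : evW ev [0, 2, 4, 6, 5, 1, 11, 9] • base = base := by
  obtain ⟨s', hs⟩ := Option.isSome_iff_exists.1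
    (show (enum.chkPath 31153 0 0 0x254e008c24026400076a402a9e009d20026b600002800008 [9, 11, 1, 5, 6, 4, 2, 0]).isSome = true by decide +kernel)
  simpa using Enum.loop enum_valid hI facts_ok hs

theorem loop23 {G : Type*} [Group G] {X : Type*} [MulAction G X] {ev : ℕ → G} {base : X}
    (hI : enum.Interp ev base) : evW ev [0, 2, 5, 6, 4, 1, 6, 8] • base = base := by
  obtain ⟨s', hs⟩ := Option.isSome_iff_exists.1
    (show (enum.chkPath 31153 0 0 0x27530000300004700aa9402a4d00ac30026b600002800008 [8, 6, 1, 4, 6, 5, 2, 0]).isSome = true by decide +kernel)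
  simpa using Enum.loop enum_valid hI facts_ok hs

theorem loop24 {G : Type*} [Group G] {X : Type*} [MulAction G X] {ev : ℕ → G} {base : X}
    (hI : enum.Interp ev base) : evW ev [0, 2, 6, 1, 4, 11, 5, 9] • base = base := by
  obtain ⟨s', hs⟩ := Option.isSome_iff_exists.1
    (show (enum.chkPath 31153 0 0 0x254e0090a402837009d20026ef008fb0026b600002800008 [9, 5, 11, 4, 1, 6, 2, 0]).isSome = true by decide +kernel)
  simpa using Enum.loop enum_valid hI facts_ok hs

theorem loop25 {G : Type*} [Group G] {X : Type*} [MulAction G X] {ev : ℕ → G} {base : X}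
    (hI : enum.Interp ev base) : evW ev [0, 2, 6, 1, 5, 11, 4, 8] • base = base := by
  obtain ⟨s', hs⟩ := Option.isSome_iff_exists.1
    (show (enum.chkPath 31153 0 0 0x2753008db402aa800ac30026ef008fb0026b600002800008 [8, 4, 11, 5, 1, 6, 2, 0]).isSome = true by decide +kernel)
  simpa using Enum.loop enum_valid hI facts_ok hs

theorem loop26 {G : Type*} [Group G] {X : Type*} [MulAction G X] {ev : ℕ → G} {base : X}
    (hI : enum.Interp ev base) : evW ev [0, 2, 7, 3, 5, 8, 10, 4] • base = base := by
  obtain ⟨s', hs⟩ := Option.isSome_iff_exists.1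
    (show (enum.chkPath 31153 0 0 0x43700a36402a6000a050026b7008fb4026b600002800008 [4, 10, 8, 5, 3, 7, 2, 0]).isSome = true by decide +kernel)
  simpa using Enum.loop enum_valid hI facts_ok hs

theorem loop27 {G : Type*} [Group G] {X : Type*} [MulAction G X] {ev : ℕ → G} {base : X}
    (hI : enum.Interp ev base) : evW ev [0, 2, 10, 3, 5, 8, 4, 10] • base = base := by
  obtain ⟨s', hs⟩ := Option.isSome_iff_exists.1
    (show (enum.chkPath 31153 0 0 0x26c800121c02b6100abe802726009ae8026b600002800008 [10, 4, 8, 5, 3, 10, 2, 0]).isSome = true by decide +kernel)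
  simpa using Enum.loop enum_valid hI facts_ok hs

theorem loop28 {G : Type*} [Group G] {X : Type*} [MulAction G X] {ev : ℕ → G} {base : X}
    (hI : enum.Interp ev base) : evW ev [0, 2, 11, 1, 5, 8, 4, 11] • base = base := by
  obtain ⟨s', hs⟩ := Option.isSome_iff_exists.1
    (show (enum.chkPath 31153 0 0 0x1100121c02b6100abe8026ea009d14026b600002800008 [11, 4, 8, 5, 1, 11, 2, 0]).isSome = true by decide +kernel)
  simpa using Enum.loop enum_valid hI facts_ok hs

theorem loop29 {G : Type*} [Group G] {X : Type*} [MulAction G X] {ev : ℕ → G} {base : X}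
    (hI : enum.Interp ev base) : evW ev [0, 3, 1, 5, 10, 9, 4, 2] • base = base := by
  obtain ⟨s', hs⟩ := Option.isSome_iff_exists.1
    (show (enum.chkPath 31153 0 0 0x1300a6e402bd900aca802418009d700173800002800008 [2, 4, 9, 10, 5, 1, 3, 0]).isSome = true by decide +kernel)
  simpa using Enum.loop enum_valid hI facts_ok hs

theorem loop30 {G : Type*} [Group G] {X : Type*} [MulAction G X] {ev : ℕ → G} {base : X}
    (hI : enum.Interp ev base) : evW ev [0, 3, 4, 8, 5, 11, 8, 3] • base = base := by
  obtain ⟨s', hs⟩ := Option.isSome_iff_exists.1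
    (show (enum.chkPath 31153 0 0 0x500953c000110076a402abb00aad00173800002800008 [3, 8, 11, 5, 8, 4, 3, 0]).isSome = true by decide +kernel)
  simpa using Enum.loop enum_valid hI facts_ok hs

theorem loop31 {G : Type*} [Group G] {X : Type*} [MulAction G X] {ev : ℕ → G} {base : X}
    (hI : enum.Interp ev base) : evW ev [0, 3, 4, 9, 11, 5, 9, 3] • base = base := by
  obtain ⟨s', hs⟩ := Option.isSome_iff_exists.1
    (show (enum.chkPath 31153 0 0 0x5009bd001da900a5dc02ab900aad00173800002800008 [3, 9, 5, 11, 9, 4, 3, 0]).isSome = true by decide +kernel)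
  simpa using Enum.loop enum_valid hI facts_ok hs

theorem loop32 {G : Type*} [Group G] {X : Type*} [MulAction G X] {ev : ℕ → G} {base : X}
    (hI : enum.Interp ev base) : evW ev [0, 3, 5, 6, 9, 4, 8, 3] • base = base := by
  obtain ⟨s', hs⟩ := Option.isSome_iff_exists.1
    (show (enum.chkPath 31153 0 0 0x500953c004370011e402ad500ab400173800002800008 [3, 8, 4, 9, 6, 5, 3, 0]).isSome = true by decide +kernel)
  simpa using Enum.loop enum_valid hI facts_ok hs

theorem loop33 {G : Type*} [Group G] {X : Type*} [MulAction G X] {ev : ℕ → G} {base : X}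
    (hI : enum.Interp ev base) : evW ev [0, 3, 5, 7, 8, 10, 4, 3] • base = base := by
  obtain ⟨s', hs⟩ := Option.isSome_iff_exists.1
    (show (enum.chkPath 31153 0 0 0x5009064028b500af3402b0700ab400173800002800008 [3, 4, 10, 8, 7, 5, 3, 0]).isSome = true by decide +kernel)
  simpa using Enum.loop enum_valid hI facts_ok hs

theorem loop34 {G : Type*} [Group G] {X : Type*} [MulAction G X] {ev : ℕ → G} {base : X}
    (hI : enum.Interp ev base) : evW ev [0, 3, 5, 10, 9, 4, 7, 3] • base = base := by
  obtain ⟨s', hs⟩ := Option.isSome_iff_exists.1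
    (show (enum.chkPath 31153 0 0 0x500810c028d500afd402aee00ab400173800002800008 [3, 7, 4, 9, 10, 5, 3, 0]).isSome = true by decide +kernel)
  simpa using Enum.loop enum_valid hI facts_ok hs

theorem loop35 {G : Type*} [Group G] {X : Type*} [MulAction G X] {ev : ℕ → G} {base : X}
    (hI : enum.Interp ev base) : evW ev [0, 3, 7, 10, 4, 8, 5, 3] • base = base := by
  obtain ⟨s', hs⟩ := Option.isSome_iff_exists.1
    (show (enum.chkPath 31153 0 0 0x50090a402a7100a9a8026220092280173800002800008 [3, 5, 8, 4, 10, 7, 3, 0]).isSome = true by decide +kernel)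
  simpa using Enum.loop enum_valid hI facts_ok hs

theorem loop36 {G : Type*} [Group G] {X : Type*} [MulAction G X] {ev : ℕ → G} {base : X}
    (hI : enum.Interp ev base) : evW ev [0, 3, 8, 4, 7, 5, 10, 3] • base = base := by
  obtain ⟨s', hs⟩ := Option.isSome_iff_exists.1
    (show (enum.chkPath 31153 0 0 0x50088b4027af009ec4027ae0094700173800002800008 [3, 10, 5, 7, 4, 8, 3, 0]).isSome = true by decide +kernel)
  simpa using Enum.loop enum_valid hI facts_ok hs

theorem loop37 {G : Type*} [Group G] {X : Type*} [MulAction G X] {ev : ℕ → G} {base : X}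
    (hI : enum.Interp ev base) : evW ev [0, 3, 8, 10, 5, 7, 4, 3] • base = base := by
  obtain ⟨s', hs⟩ := Option.isSome_iff_exists.1
    (show (enum.chkPath 31153 0 0 0x5009064029f20090600222d0094700173800002800008 [3, 4, 7, 5, 10, 8, 3, 0]).isSome = true by decide +kernel)
  simpa using Enum.loop enum_valid hI facts_ok hs

theorem loop38 {G : Type*} [Group G] {X : Type*} [MulAction G X] {ev : ℕ → G} {base : X}
    (hI : enum.Interp ev base) : evW ev [0, 3, 10, 4, 7, 8, 5, 3] • base = base := by
  obtain ⟨s', hs⟩ := Option.isSome_iff_exists.1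
    (show (enum.chkPath 31153 0 0 0x50090a402a7100a9b402a6a0098880173800002800008 [3, 5, 8, 7, 4, 10, 3, 0]).isSome = true by decide +kernel)
  simpa using Enum.loop enum_valid hI facts_ok hs

theorem loop39 {G : Type*} [Group G] {X : Type*} [MulAction G X] {ev : ℕ → G} {base : X}
    (hI : enum.Interp ev base) : evW ev [0, 4, 2, 5, 1, 6, 5, 8] • base = base := by
  obtain ⟨s', hs⟩ := Option.isSome_iff_exists.1
    (show (enum.chkPath 31153 0 0 0x2753008dfc0284203b7100f35803be24027ae00002800008 [8, 5, 6, 1, 5, 2, 4, 0]).isSome = true by decide +kernel)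
  simpa using Enum.loop enum_valid hI facts_ok hs

theorem loop40 {G : Type*} [Group G] {X : Type*} [MulAction G X] {ev : ℕ → G} {base : X}
    (hI : enum.Interp ev base) : evW ev [0, 4, 3, 5, 1, 9, 4, 7] • base = base := by
  obtain ⟨s', hs⟩ := Option.isSome_iff_exists.1
    (show (enum.chkPath 31153 0 0 0x214700abec02b6003cd800f354009eb4027ae00002800008 [7, 4, 9, 1, 5, 3, 4, 0]).isSome = true by decide +kernel)
  simpa using Enum.loop enum_valid hI facts_ok hs

theorem loop41 {G : Type*} [Group G] {X : Type*} [MulAction G X] {ev : ℕ → G} {base : X}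
    (hI : enum.Interp ev base) : evW ev [0, 4, 3, 6, 0, 4, 3, 11] • base = base := by
  obtain ⟨s', hs⟩ := Option.isSome_iff_exists.1
    (show (enum.chkPath 31153 0 0 0x11007ad00236d0145cc0edd0009eb4027ae00002800008 [11, 3, 4, 0, 6, 3, 4, 0]).isSome = true by decide +kernel)
  simpa using Enum.loop enum_valid hI facts_ok hs

theorem loop42 {G : Type*} [Group G] {X : Type*} [MulAction G X] {ev : ℕ → G} {base : X}
    (hI : enum.Interp ev base) : evW ev [0, 4, 4, 6, 4, 3, 9, 6] • base = base := by
  obtain ⟨s', hs⟩ := Option.isSome_iff_exists.1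
    (show (enum.chkPath 31153 0 0 0x20a10078700274e00a38c028e40011ec027ae00002800008 [6, 9, 3, 4, 6, 4, 4, 0]).isSome = true by decide +kernel)
  simpa using Enum.loop enum_valid hI facts_ok hs

theorem loop43 {G : Type*} [Group G] {X : Type*} [MulAction G X] {ev : ℕ → G} {base : X}
    (hI : enum.Interp ev base) : evW ev [0, 4, 6, 5, 10, 10, 1, 3] • base = base := by
  obtain ⟨s', hs⟩ := Option.isSome_iff_exists.1
    (show (enum.chkPath 31153 0 0 0x5009d70023080088b4027af009ec0027ae00002800008 [3, 1, 10, 10, 5, 6, 4, 0]).isSome = true by decide +kernel)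
  simpa using Enum.loop enum_valid hI facts_ok hs

theorem loop44 {G : Type*} [Group G] {X : Type*} [MulAction G X] {ev : ℕ → G} {base : X}
    (hI : enum.Interp ev base) : evW ev [0, 4, 6, 6, 5, 7, 1, 2] • base = base := by
  obtain ⟨s', hs⟩ := Option.isSome_iff_exists.1
    (show (enum.chkPath 31153 0 0 0x130098f000009009ebc027b0009ec0027ae00002800008 [2, 1, 7, 5, 6, 6, 4, 0]).isSome = true by decide +kernel)
  simpa using Enum.loop enum_valid hI facts_ok hs

theorem loop45 {G : Type*} [Group G] {X : Type*} [MulAction G X] {ev : ℕ → G} {base : X}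
    (hI : enum.Interp ev base) : evW ev [0, 4, 6, 10, 10, 5, 1, 3] • base = base := by
  obtain ⟨s', hs⟩ := Option.isSome_iff_exists.1
    (show (enum.chkPath 31153 0 0 0x5009d7002ab500ab70027b5009ec0027ae00002800008 [3, 1, 5, 10, 10, 6, 4, 0]).isSome = true by decide +kernel)
  simpa using Enum.loop enum_valid hI facts_ok hs

theorem loop46 {G : Type*} [Group G] {X : Type*} [MulAction G X] {ev : ℕ → G} {base : X}
    (hI : enum.Interp ev base) : evW ev [0, 4, 7, 4, 4, 7, 1, 2] • base = base := by
  obtain ⟨s', hs⟩ := Option.isSome_iff_exists.1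
    (show (enum.chkPath 31153 0 0 0x130098f00000900a0540047b009ec4027ae00002800008 [2, 1, 7, 4, 4, 7, 4, 0]).isSome = true by decide +kernel)
  simpa using Enum.loop enum_valid hI facts_ok hs

theorem loop47 {G : Type*} [Group G] {X : Type*} [MulAction G X] {ev : ℕ → G} {base : X}
    (hI : enum.Interp ev base) : evW ev [0, 4, 7, 5, 3, 1, 8, 10] • base = base := by
  obtain ⟨s', hs⟩ := Option.isSome_iff_exists.1
    (show (enum.chkPath 31153 0 0 0x26c8009bd40275c005ce0027af009ec4027ae00002800008 [10, 8, 1, 3, 5, 7, 4, 0]).isSome = true by decide +kernel)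
  simpa using Enum.loop enum_valid hI facts_ok hs

theorem loop48 {G : Type*} [Group G] {X : Type*} [MulAction G X] {ev : ℕ → G} {base : X}
    (hI : enum.Interp ev base) : evW ev [0, 4, 7, 5, 7, 1, 3, 3] • base = base := by
  obtain ⟨s', hs⟩ := Option.isSome_iff_exists.1
    (show (enum.chkPath 31153 0 0 0x50000540263c000024027af009ec4027ae00002800008 [3, 3, 1, 7, 5, 7, 4, 0]).isSome = true by decide +kernel)
  simpa using Enum.loop enum_valid hI facts_ok hs

theorem loop49 {G : Type*} [Group G] {X : Type*} [MulAction G X] {ev : ℕ → G} {base : X}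
    (hI : enum.Interp ev base) : evW ev [0, 4, 7, 5, 7, 3, 9, 6] • base = base := by
  obtain ⟨s', hs⟩ := Option.isSome_iff_exists.1
    (show (enum.chkPath 31153 0 0 0x20a10078700274e000024027af009ec4027ae00002800008 [6, 9, 3, 7, 5, 7, 4, 0]).isSome = true by decide +kernel)
  simpa using Enum.loop enum_valid hI facts_ok hs

theorem loop50 {G : Type*} [Group G] {X : Type*} [MulAction G X] {ev : ℕ → G} {base : X}
    (hI : enum.Interp ev base) : evW ev [0, 4, 7, 10, 5, 3, 8, 11] • base = base := by
  obtain ⟨s', hs⟩ := Option.isSome_iff_exists.1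
    (show (enum.chkPath 31153 0 0 0x11009bd400015008d3c027b5009ec4027ae00002800008 [11, 8, 3, 5, 10, 7, 4, 0]).isSome = true by decide +kernel)
  simpa using Enum.loop enum_valid hI facts_ok hs

theorem loop51 {G : Type*} [Group G] {X : Type*} [MulAction G X] {ev : ℕ → G} {base : X}
    (hI : enum.Interp ev base) : evW ev [0, 4, 8, 5, 1, 1, 3, 8] • base = base := by
  obtain ⟨s', hs⟩ := Option.isSome_iff_exists.1
    (show (enum.chkPath 31153 0 0 0x2753008b64025e2009bf00237f0011f0027ae00002800008 [8, 3, 1, 1, 5, 8, 4, 0]).isSome = true by decide +kernel)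
  simpa using Enum.loop enum_valid hI facts_ok hs

theorem loop52 {G : Type*} [Group G] {X : Type*} [MulAction G X] {ev : ℕ → G} {base : X}
    (hI : enum.Interp ev base) : evW ev [0, 4, 8, 5, 2, 6, 9, 3] • base = base := by
  obtain ⟨s', hs⟩ := Option.isSome_iff_exists.1
    (show (enum.chkPath 31153 0 0 0x5009bd002310008b600237f0011f0027ae00002800008 [3, 9, 6, 2, 5, 8, 4, 0]).isSome = true by decide +kernel)
  simpa using Enum.loop enum_valid hI facts_ok hs

theorem loop53 {G : Type*} [Group G] {X : Type*} [MulAction G X] {ev : ℕ → G} {base : X}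
    (hI : enum.Interp ev base) : evW ev [0, 4, 8, 5, 7, 9, 1, 3] • base = base := by
  obtain ⟨s', hs⟩ := Option.isSome_iff_exists.1
    (show (enum.chkPath 31153 0 0 0x5009d700251d0000340237f0011f0027ae00002800008 [3, 1, 9, 7, 5, 8, 4, 0]).isSome = true by decide +kernel)
  simpa using Enum.loop enum_valid hI facts_ok hs

theorem loop54 {G : Type*} [Group G] {X : Type*} [MulAction G X] {ev : ℕ → G} {base : X}
    (hI : enum.Interp ev base) : evW ev [0, 4, 8, 7, 5, 2, 0, 9] • base = base := by
  obtain ⟨s', hs⟩ := Option.isSome_iff_exists.1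
    (show (enum.chkPath 31153 0 0 0x254e00001c0274f009f94028430011f0027ae00002800008 [9, 0, 2, 5, 7, 8, 4, 0]).isSome = true by decide +kernel)
  simpa using Enum.loop enum_valid hI facts_ok hs

theorem loop55 {G : Type*} [Group G] {X : Type*} [MulAction G X] {ev : ℕ → G} {base : X}
    (hI : enum.Interp ev base) : evW ev [0, 4, 9, 5, 2, 11, 9, 3] • base = base := by
  obtain ⟨s', hs⟩ := Option.isSome_iff_exists.1
    (show (enum.chkPath 31153 0 0 0x5009bd0026c900004c0234f00a790027ae00002800008 [3, 9, 11, 2, 5, 9, 4, 0]).isSome = true by decide +kernel)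
  simpa using Enum.loop enum_valid hI facts_ok hs

theorem loop56 {G : Type*} [Group G] {X : Type*} [MulAction G X] {ev : ℕ → G} {base : X}
    (hI : enum.Interp ev base) : evW ev [0, 4, 10, 5, 8, 2, 0, 9] • base = base := by
  obtain ⟨s', hs⟩ := Option.isSome_iff_exists.1
    (show (enum.chkPath 31153 0 0 0x254e00001c0274f0078740234f009ed4027ae00002800008 [9, 0, 2, 8, 5, 10, 4, 0]).isSome = true by decide +kernel)
  simpa using Enum.loop enum_valid hI facts_ok hs

theorem loop57 {G : Type*} [Group G] {X : Type*} [MulAction G X] {ev : ℕ → G} {base : X}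
    (hI : enum.Interp ev base) : evW ev [0, 4, 10, 5, 9, 2, 0, 8] • base = base := by
  obtain ⟨s', hs⟩ := Option.isSome_iff_exists.1
    (show (enum.chkPath 31153 0 0 0x2753009bf40261f0081100234f009ed4027ae00002800008 [8, 0, 2, 9, 5, 10, 4, 0]).isSome = true by decide +kernel)
  simpa using Enum.loop enum_valid hI facts_ok hs

theorem loop58 {G : Type*} [Group G] {X : Type*} [MulAction G X] {ev : ℕ → G} {base : X}
    (hI : enum.Interp ev base) : evW ev [0, 4, 10, 10, 5, 6, 1, 3] • base = base := by
  obtain ⟨s', hs⟩ := Option.isSome_iff_exists.1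
    (show (enum.chkPath 31153 0 0 0x5009d700248b00aad402adc009ed4027ae00002800008 [3, 1, 6, 5, 10, 10, 4, 0]).isSome = true by decide +kernel)
  simpa using Enum.loop enum_valid hI facts_ok hs

theorem loop59 {G : Type*} [Group G] {X : Type*} [MulAction G X] {ev : ℕ → G} {base : X}
    (hI : enum.Interp ev base) : evW ev [0, 4, 11, 6, 10, 5, 1, 2] • base = base := by
  obtain ⟨s', hs⟩ := Option.isSome_iff_exists.1
    (show (enum.chkPath 31153 0 0 0x130098f0027e500114802b4900ad6c027ae00002800008 [2, 1, 5, 10, 6, 11, 4, 0]).isSome = true by decide +kernel)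
  simpa using Enum.loop enum_valid hI facts_ok hs

theorem loop60 {G : Type*} [Group G] {X : Type*} [MulAction G X] {ev : ℕ → G} {base : X}
    (hI : enum.Interp ev base) : evW ev [0, 4, 11, 7, 10, 5, 1, 3] • base = base := by
  obtain ⟨s', hs⟩ := Option.isSome_iff_exists.1
    (show (enum.chkPath 31153 0 0 0x5009d7002ab500ab7002b4700ad6c027ae00002800008 [3, 1, 5, 10, 7, 11, 4, 0]).isSome = true by decide +kernel)
  simpa using Enum.loop enum_valid hI facts_ok hs

theorem loop61 {G : Type*} [Group G] {X : Type*} [MulAction G X] {ev : ℕ → G} {base : X}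
    (hI : enum.Interp ev base) : evW ev [0, 4, 11, 11, 7, 5, 1, 2] • base = base := by
  obtain ⟨s', hs⟩ := Option.isSome_iff_exists.1
    (show (enum.chkPath 31153 0 0 0x130098f0027e500a10c027f700ad6c027ae00002800008 [2, 1, 5, 7, 11, 11, 4, 0]).isSome = true by decide +kernel)
  simpa using Enum.loop enum_valid hI facts_ok hs

theorem loop62 {G : Type*} [Group G] {X : Type*} [MulAction G X] {ev : ℕ → G} {base : X}
    (hI : enum.Interp ev base) : evW ev [0, 5, 6, 4, 3, 9, 7, 7] • base = base := by
  obtain ⟨s', hs⟩ := Option.isSome_iff_exists.1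
    (show (enum.chkPath 31153 0 0 0x2147009a7801e1c009d38028e300a3900281400002800008 [7, 7, 9, 3, 4, 6, 5, 0]).isSome = true by decide +kernel)
  simpa using Enum.loop enum_valid hI facts_ok hs

theorem loop63 {G : Type*} [Group G] {X : Type*} [MulAction G X] {ev : ℕ → G} {base : X}
    (hI : enum.Interp ev base) : evW ev [0, 5, 6, 4, 10, 1, 6, 10] • base = base := by
  obtain ⟨s', hs⟩ := Option.isSome_iff_exists.1
    (show (enum.chkPath 31153 0 0 0x26c8008c40025e20099b8028e300a3900281400002800008 [10, 6, 1, 10, 4, 6, 5, 0]).isSome = true by decide +kernel)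
  simpa using Enum.loop enum_valid hI facts_ok hs

theorem loop64 {G : Type*} [Group G] {X : Type*} [MulAction G X] {ev : ℕ → G} {base : X}
    (hI : enum.Interp ev base) : evW ev [0, 5, 7, 4, 3, 1, 9, 7] • base = base := by
  obtain ⟨s', hs⟩ := Option.isSome_iff_exists.1
    (show (enum.chkPath 31153 0 0 0x2147009498026ef009c1002ad100ab500281400002800008 [7, 9, 1, 3, 4, 7, 5, 0]).isSome = true by decide +kernel)
  simpa using Enum.loop enum_valid hI facts_ok hs

theorem loop65 {G : Type*} [Group G] {X : Type*} [MulAction G X] {ev : ℕ → G} {base : X}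
    (hI : enum.Interp ev base) : evW ev [0, 5, 7, 4, 3, 9, 6, 2] • base = base := by
  obtain ⟨s', hs⟩ := Option.isSome_iff_exists.1
    (show (enum.chkPath 31153 0 0 0x13009a7c02526009c1002ad100ab500281400002800008 [2, 6, 9, 3, 4, 7, 5, 0]).isSome = true by decide +kernel)
  simpa using Enum.loop enum_valid hI facts_ok hs

theorem loop66 {G : Type*} [Group G] {X : Type*} [MulAction G X] {ev : ℕ → G} {base : X}
    (hI : enum.Interp ev base) : evW ev [0, 5, 7, 7, 4, 3, 9, 6] • base = base := by
  obtain ⟨s', hs⟩ := Option.isSome_iff_exists.1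
    (show (enum.chkPath 31153 0 0 0x20a10078700274e00a38c02b0700ab500281400002800008 [6, 9, 3, 4, 7, 7, 5, 0]).isSome = true by decide +kernel)
  simpa using Enum.loop enum_valid hI facts_ok hs

theorem loop67 {G : Type*} [Group G] {X : Type*} [MulAction G X] {ev : ℕ → G} {base : X}
    (hI : enum.Interp ev base) : evW ev [0, 5, 7, 11, 4, 1, 7, 11] • base = base := by
  obtain ⟨s', hs⟩ := Option.isSome_iff_exists.1
    (show (enum.chkPath 31153 0 0 0x1100992c0210300acf40049400ab500281400002800008 [11, 7, 1, 4, 11, 7, 5, 0]).isSome = true by decide +kernel)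
  simpa using Enum.loop enum_valid hI facts_ok hs

theorem loop68 {G : Type*} [Group G] {X : Type*} [MulAction G X] {ev : ℕ → G} {base : X}
    (hI : enum.Interp ev base) : evW ev [0, 5, 7, 11, 4, 1, 10, 6] • base = base := by
  obtain ⟨s', hs⟩ := Option.isSome_iff_exists.1
    (show (enum.chkPath 31153 0 0 0x20a1009be40210300acf40049400ab500281400002800008 [6, 10, 1, 4, 11, 7, 5, 0]).isSome = true by decide +kernel)
  simpa using Enum.loop enum_valid hI facts_ok hs

theorem loop69 {G : Type*} [Group G] {X : Type*} [MulAction G X] {ev : ℕ → G} {base : X}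
    (hI : enum.Interp ev base) : evW ev [0, 5, 10, 4, 1, 3, 7, 11] • base = base := by
  obtain ⟨s', hs⟩ := Option.isSome_iff_exists.1
    (show (enum.chkPath 31153 0 0 0x1100992c01e5900840c02b3d00ad5c0281400002800008 [11, 7, 3, 1, 4, 10, 5, 0]).isSome = true by decide +kernel)
  simpa using Enum.loop enum_valid hI facts_ok hs

theorem loop70 {G : Type*} [Group G] {X : Type*} [MulAction G X] {ev : ℕ → G} {base : X}
    (hI : enum.Interp ev base) : evW ev [0, 5, 10, 4, 1, 3, 10, 6] • base = base := by
  obtain ⟨s', hs⟩ := Option.isSome_iff_exists.1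
    (show (enum.chkPath 31153 0 0 0x20a1009be401e5900840c02b3d00ad5c0281400002800008 [6, 10, 3, 1, 4, 10, 5, 0]).isSome = true by decide +kernel)
  simpa using Enum.loop enum_valid hI facts_ok hs

theorem loop71 {G : Type*} [Group G] {X : Type*} [MulAction G X] {ev : ℕ → G} {base : X}
    (hI : enum.Interp ev base) : evW ev [0, 5, 10, 4, 8, 2, 0, 8] • base = base := by
  obtain ⟨s', hs⟩ := Option.isSome_iff_exists.1
    (show (enum.chkPath 31153 0 0 0x2753009bf40261f00013002b3d00ad5c0281400002800008 [8, 0, 2, 8, 4, 10, 5, 0]).isSome = true by decide +kernel)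
  simpa using Enum.loop enum_valid hI facts_ok hs

theorem loop72 {G : Type*} [Group G] {X : Type*} [MulAction G X] {ev : ℕ → G} {base : X}
    (hI : enum.Interp ev base) : evW ev [0, 5, 10, 4, 9, 2, 0, 9] • base = base := by
  obtain ⟨s', hs⟩ := Option.isSome_iff_exists.1
    (show (enum.chkPath 31153 0 0 0x254e00001c0274f00900c02b3d00ad5c0281400002800008 [9, 0, 2, 9, 4, 10, 5, 0]).isSome = true by decide +kernel)
  simpa using Enum.loop enum_valid hI facts_ok hs

theorem loop73 {G : Type*} [Group G] {X : Type*} [MulAction G X] {ev : ℕ → G} {base : X}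
    (hI : enum.Interp ev base) : evW ev [0, 5, 10, 6, 4, 1, 7, 11] • base = base := by
  obtain ⟨s', hs⟩ := Option.isSome_iff_exists.1
    (show (enum.chkPath 31153 0 0 0x1100992c0210300acf402b3f00ad5c0281400002800008 [11, 7, 1, 4, 6, 10, 5, 0]).isSome = true by decide +kernel)
  simpa using Enum.loop enum_valid hI facts_ok hs

theorem loop74 {G : Type*} [Group G] {X : Type*} [MulAction G X] {ev : ℕ → G} {base : X}
    (hI : enum.Interp ev base) : evW ev [0, 5, 10, 6, 4, 1, 10, 6] • base = base := by
  obtain ⟨s', hs⟩ := Option.isSome_iff_exists.1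
    (show (enum.chkPath 31153 0 0 0x20a1009be40210300acf402b3f00ad5c0281400002800008 [6, 10, 1, 4, 6, 10, 5, 0]).isSome = true by decide +kernel)
  simpa using Enum.loop enum_valid hI facts_ok hs

theorem loop75 {G : Type*} [Group G] {X : Type*} [MulAction G X] {ev : ℕ → G} {base : X}
    (hI : enum.Interp ev base) : evW ev [0, 5, 10, 7, 4, 3, 9, 11] • base = base := by
  obtain ⟨s', hs⟩ := Option.isSome_iff_exists.1
    (show (enum.chkPath 31153 0 0 0x11000038022d900acf402b3e00ad5c0281400002800008 [11, 9, 3, 4, 7, 10, 5, 0]).isSome = true by decide +kernel)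
  simpa using Enum.loop enum_valid hI facts_ok hs

theorem loop76 {G : Type*} [Group G] {X : Type*} [MulAction G X] {ev : ℕ → G} {base : X}
    (hI : enum.Interp ev base) : evW ev [0, 5, 11, 4, 1, 7, 11, 2] • base = base := by
  obtain ⟨s', hs⟩ := Option.isSome_iff_exists.1
    (show (enum.chkPath 31153 0 0 0x13009d14023ed009bbc02b0d00aa100281400002800008 [2, 11, 7, 1, 4, 11, 5, 0]).isSome = true by decide +kernel)
  simpa using Enum.loop enum_valid hI facts_ok hs

theorem loop77 {G : Type*} [Group G] {X : Type*} [MulAction G X] {ev : ℕ → G} {base : X}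
    (hI : enum.Interp ev base) : evW ev [0, 5, 11, 4, 1, 10, 6, 2] • base = base := by
  obtain ⟨s', hs⟩ := Option.isSome_iff_exists.1
    (show (enum.chkPath 31153 0 0 0x13009a7c026ba009bbc02b0d00aa100281400002800008 [2, 6, 10, 1, 4, 11, 5, 0]).isSome = true by decide +kernel)
  simpa using Enum.loop enum_valid hI facts_ok hs

theorem loop78 {G : Type*} [Group G] {X : Type*} [MulAction G X] {ev : ℕ → G} {base : X}
    (hI : enum.Interp ev base) : evW ev [0, 5, 11, 7, 11, 4, 1, 2] • base = base := by
  obtain ⟨s', hs⟩ := Option.isSome_iff_exists.1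
    (show (enum.chkPath 31153 0 0 0x130098f0028e300a3a80293900aa100281400002800008 [2, 1, 4, 11, 7, 11, 5, 0]).isSome = true by decide +kernel)
  simpa using Enum.loop enum_valid hI facts_ok hs

theorem loop79 {G : Type*} [Group G] {X : Type*} [MulAction G X] {ev : ℕ → G} {base : X}
    (hI : enum.Interp ev base) : evW ev [0, 6, 1, 2, 4, 10, 5, 11] • base = base := by
  obtain ⟨s', hs⟩ := Option.isSome_iff_exists.1
    (show (enum.chkPath 31153 0 0 0x110076a40048c00a5c00261f009bf00000c00002800008 [11, 5, 10, 4, 2, 1, 6, 0]).isSome = true by decide +kernel)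
  simpa using Enum.loop enum_valid hI facts_ok hs

theorem loops {G : Type*} [Group G] {X : Type*} [MulAction G X] {ev : ℕ → G} {base : X}
    (hI : enum.Interp ev base) : ∀ w ∈ loopWords, evW ev w • base = base := by
  unfold loopWords
  simp only [List.forall_mem_cons]
  exact ⟨loop0 hI, loop1 hI, loop2 hI, loop3 hI, loop4 hI, loop5 hI, loop6 hI, loop7 hI, loop8 hI, loop9 hI, loop10 hI, loop11 hI, loop12 hI, loop13 hI, loop14 hI, loop15 hI, loop16 hI, loop17 hI, loop18 hI, loop19 hI, loop20 hI, loop21 hI, loop22 hI, loop23 hI, loop24 hI, loop25 hI, loop26 hI, loop27 hI, loop28 hI, loop29 hI, loop30 hI, loop31 hI, loop32 hI, loop33 hI, loop34 hI, loop35 hI, loop36 hI, loop37 hI, loop38 hI, loop39 hI, loop40 hI, loop41 hI, loop42 hI, loop43 hI, loop44 hI, loop45 hI, loop46 hI, loop47 hI, loop48 hI, loop49 hI, loop50 hI, loop51 hI, loop52 hI, loop53 hI, loop54 hI, loop55 hI, loop56 hI, loop57 hI, loop58 hI, loop59 hI, loop60 hI, loop61 hI, loop62 hI, loop63 hI, loop64 hI, loop65 hI, loop66 hI, loop67 hI, loop68 hI,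 loop69 hI, loop70 hI, loop71 hI, loop72 hI, loop73 hI, loop74 hI, loop75 hI, loop76 hI, loop77 hI, loop78 hI, loop79 hI, List.forall_mem_nil _⟩

end CfsgLib.McLUnique.Cert.Side1
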